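import Groth.Agent.Lib.NagataH7.Bot
import Groth.Agent.Lib.NormFin18.Nagata
import Groth.Agent.Lib.EtRamH7.Compositum
import Mathlib.RingTheory.DedekindDomain.IntegralClosure
import Mathlib.RingTheory.Artinian.Module

/-!
# The Nagata property descends along separable extensions of discrete valuation rings
-/

universe u

open scoped TensorProduct

namespace Groth.Agent.NagataH7

section NoethImage

/-- The integral closure in a reduced finite algebra over the fraction field is finite. -/
theorem finite_integralClosure_artinian (B L T : Type u) [CommRing B] [IsDomain B] [IsNoetherianRing B] [Field L] [Algebra B L]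
    [IsFractionRing B L] (h : CAlg.IsN2 (B ⧸ (⊥ : Ideal B))) [CommRing T] [IsReduced T] [Algebra L T] [Algebra B T]
    [IsScalarTower B L T] [Module.Finite L T] : Module.Finite B (integralClosure B T) := by
  classical
  haveI : IsArtinianRing T := IsArtinianRing.of_finite L T
  letI := fun m : MaximalSpectrum T => Ideal.Quotient.field m.asIdeal
  haveI hfin : ∀ m : MaximalSpectrum T, Module.Finite B (integralClosure B (T ⧸ m.asIdeal)) := fun m =>
    finite_integralClosure B L h (T ⧸ m.asIdeal)
  let f : integralClosure B T →ₗ[B] ((m : MaximalSpectrum T) → integralClosure B (T ⧸ m.asIdeal)) :=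
    { toFun := fun x m => ⟨Ideal.Quotient.mkₐ B m.asIdeal x.1, x.2.map _⟩
      map_add' := fun x y => funext fun m => Subtype.ext (map_add _ _ _)
      map_smul' := fun b x => funext fun m => Subtype.ext (map_smul (Ideal.Quotient.mkₐ B m.asIdeal) b x.1) }
  refine Module.Finite.of_injective f fun x y hxy => Subtype.ext ?_
  rw [← sub_eq_zero]
  have hmem : x.1 - y.1 ∈ Ideal.jacobson (⊥ : Ideal T) := by
    refine Ideal.mem_sInf.2 fun m hm => ?_
    have := congrArg Subtype.val (congrFun hxy ⟨m, hm.2⟩)
    exact Ideal.Quotient.eq.1 this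
  rw [IsArtinianRing.jacobson_eq_radical] at hmem
  obtain ⟨n, hn⟩ := hmem
  exact IsReduced.eq_zero _ ⟨n, by simpa using hn⟩

end NoethImage

theorem finite_integralClosure_descends (A B K L : Type u) [CommRing A] [IsDomain A] [IsDiscreteValuationRing A]
    [CommRing B] [IsDomain B] [IsDiscreteValuationRing B] [Algebra A B] [IsLocalHom (algebraMap A B)]
    [Field K] [Field L] [Algebra A K] [IsFractionRing A K] [Algebra B L] [IsFractionRing B L]
    [Algebra K L] [Algebra A L] [IsScalarTower A K L] [IsScalarTower A B L] [Algebra.IsGeometricallyReduced K L]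
    (hB : CAlg.IsNagata B) (M : Type u) [Field M] [Algebra A M] [Algebra K M] [IsScalarTower A K M]
    [FiniteDimensional K M] : Module.Finite A (integralClosure A M) := by
  classical
  obtain ⟨s, b, hb⟩ := FiniteDimensional.exists_is_basis_integral A K M
  haveI : IsReduced (L ⊗[K] M) :=
    isReduced_of_injective (Algebra.TensorProduct.comm K L M) (Algebra.TensorProduct.comm K L M).injective
  haveI hBfin : Module.Finite B (integralClosure B (L ⊗[K] M)) :=
    finite_integralClosure_artinian B L (L ⊗[K] M) (hB.2 ⊥)
  let bT : Module.Basis s L (L ⊗[K] M) := b.baseChange L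
  -- generators of the integral closure and the denominator of their coordinates
  obtain ⟨G, hG⟩ := Module.finite_def.1 hBfin
  obtain ⟨⟨d, hd⟩, hint⟩ := IsLocalization.exist_integer_multiples_of_finite (nonZeroDivisors B)
    (fun gi : G × s => (bT.repr (gi.1.1.1) gi.2 : L))
  obtain ⟨ϖ, hϖ⟩ := IsDiscreteValuationRing.exists_irreducible A
  -- `d` divides a power of the image of the uniformiser
  obtain ⟨q, hq⟩ : ∃ q : ℕ, d ∣ algebraMap A B ϖ ^ q := by
    obtain ⟨β, hβ⟩ := IsDiscreteValuationRing.exists_irreducible B
    obtain ⟨k, u, rfl⟩ := IsDiscreteValuationRing.eq_unit_mul_pow_irreducible (nonZeroDivisors.ne_zero hd) hβ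
    refine ⟨k, ?_⟩
    rw [Units.mul_left_dvd]
    refine pow_dvd_pow_of_dvd ?_ k
    have : algebraMap A B ϖ ∈ IsLocalRing.maximalIdeal B := by
      rw [IsLocalRing.mem_maximalIdeal]
      exact fun hu => hϖ.not_isUnit (isUnit_of_map_unit (algebraMap A B) ϖ hu)
    rw [hβ.maximalIdeal_eq, Ideal.mem_span_singleton] at this
    exact this
  -- the coordinates of integral elements are bounded
  have hbound : ∀ x : M, IsIntegral A x → ∀ i, ∃ a : A, algebraMap A K a = algebraMap A K (ϖ ^ q) * b.repr x i := by
    intro x hx i
    have hxB : IsIntegral B ((1 : L) ⊗ₜ[K] x : L ⊗[K] M) := by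
      obtain ⟨P, hP, hP0⟩ := hx
      refine ⟨P.map (algebraMap A B), hP.map _, ?_⟩
      have hcomp : (algebraMap B (L ⊗[K] M)).comp (algebraMap A B) =
          (Algebra.TensorProduct.includeRight : M →ₐ[K] L ⊗[K] M).toRingHom.comp (algebraMap A M) := by
        ext a
        show algebraMap L (L ⊗[K] M) (algebraMap B L (algebraMap A B a)) = (1 : L) ⊗ₜ[K] algebraMap A M a
        rw [← IsScalarTower.algebraMap_apply A B L, IsScalarTower.algebraMap_apply A K L,
          IsScalarTower.algebraMap_apply A K M, Algebra.TensorProduct.algebraMap_apply,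
          Algebra.algebraMap_eq_smul_one (R := K) (A := M), TensorProduct.tmul_smul, TensorProduct.smul_tmul',
          Algebra.smul_def, mul_one]
        rfl
      rw [Polynomial.eval₂_map, hcomp]
      show Polynomial.eval₂ _ ((Algebra.TensorProduct.includeRight : M →ₐ[K] L ⊗[K] M).toRingHom x) P = 0
      rw [← Polynomial.hom_eval₂, hP0, map_zero]
    have hmem : (⟨_, hxB⟩ : integralClosure B (L ⊗[K] M)) ∈ Submodule.span B (G : Set (integralClosure B (L ⊗[K] M))) := by
      rw [hG]; exact Submodule.mem_top
    have hall : ∀ z ∈ Submodule.span B (G : Set (integralClosure B (L ⊗[K] M))),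
        IsLocalization.IsInteger B (algebraMap B L (algebraMap A B ϖ ^ q) * bT.repr z.1 i) := by
      intro z hz
      induction hz using Submodule.span_induction with
      | mem z hz =>
        obtain ⟨c, hc⟩ := hq
        obtain ⟨y, hy⟩ := hint (⟨z, hz⟩, i)
        refine ⟨c * y, ?_⟩
        rw [map_mul, hy, hc, map_mul, Algebra.smul_def]
        ring
      | zero => exact ⟨0, by simp⟩
      | add y z _ _ hy hz =>
        simp only [Subalgebra.coe_add, map_add, Finsupp.coe_add, Pi.add_apply, mul_add]
        exact IsLocalization.isInteger_add hy hz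
      | smul r z _ hz =>
        obtain ⟨y, hy⟩ := hz
        refine ⟨r * y, ?_⟩
        have : ((r • z : integralClosure B (L ⊗[K] M)) : L ⊗[K] M) = algebraMap B L r • (z : L ⊗[K] M) :=
          (IsScalarTower.algebraMap_smul L r (z : L ⊗[K] M)).symm
        rw [this, map_smul, Finsupp.smul_apply, map_mul, hy, smul_eq_mul]
        ring
    obtain ⟨y, hy⟩ := hall _ hmem
    have hcoord : bT.repr ((1 : L) ⊗ₜ[K] x) i = algebraMap K L (b.repr x i) := by
      rw [Module.Basis.baseChange_repr_tmul, Algebra.smul_def, mul_one]
    simp only [hcoord] at hy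
    rw [← map_pow, ← IsScalarTower.algebraMap_apply A B L, IsScalarTower.algebraMap_apply A K L, ← map_mul] at hy
    set c := algebraMap A K (ϖ ^ q) * b.repr x i with hcdef
    rcases ValuationRing.isInteger_or_isInteger A c with ⟨a, ha⟩ | ⟨a, ha⟩
    · exact ⟨a, ha⟩
    · rcases eq_or_ne c 0 with h0 | h0
      · exact ⟨0, by rw [h0, map_zero]⟩
      have h1 : algebraMap B L (y * algebraMap A B a) = algebraMap B L 1 := by
        rw [map_mul, hy, ← IsScalarTower.algebraMap_apply A B L, IsScalarTower.algebraMap_apply A K L, ← map_mul,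
          ha, mul_inv_cancel₀ h0, map_one, map_one]
      have hu : IsUnit (algebraMap A B a) :=
        IsUnit.of_mul_eq_one y (by rw [mul_comm]; exact IsFractionRing.injective B L h1)
      obtain ⟨v, hv⟩ := isUnit_of_map_unit (algebraMap A B) a hu
      refine ⟨↑v⁻¹, ?_⟩
      apply inv_injective
      rw [← ha, ← hv, ← map_units_inv]
      simp
  -- conclude
  haveI : Module.Finite A (Submodule.span A (Set.range fun i => (algebraMap A K (ϖ ^ q))⁻¹ • b i)) :=
    Module.Finite.span_of_finite A (Set.finite_range _)
  let g : integralClosure A M →ₗ[A] Submodule.span A (Set.range fun i => (algebraMap A K (ϖ ^ q))⁻¹ • b i) :=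
    (integralClosure A M).toSubmodule.subtype.codRestrict _ (fun x => by
      choose a ha using hbound x.1 x.2
      have hϖ0 : algebraMap A K (ϖ ^ q) ≠ 0 :=
        (map_ne_zero_iff _ (IsFractionRing.injective A K)).2 (pow_ne_zero _ hϖ.ne_zero)
      show x.1 ∈ _
      rw [← b.sum_repr x.1]
      refine Submodule.sum_mem _ fun i _ => ?_
      have : b.repr x.1 i • b i = a i • ((algebraMap A K (ϖ ^ q))⁻¹ • b i) := by
        rw [← IsScalarTower.algebraMap_smul K (a i), smul_smul, ha, mul_comm, ← mul_assoc, inv_mul_cancel₀ hϖ0, one_mul]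
      rw [this]
      exact Submodule.smul_mem _ _ (Submodule.subset_span ⟨i, rfl⟩))
  exact Module.Finite.of_injective g fun x y hxy => Subtype.ext ((congrArg (fun z => z.1) hxy : x.1 = y.1))


theorem isNagata_descends (A B K L : Type u) [CommRing A] [IsDomain A] [IsDiscreteValuationRing A]
    [CommRing B] [IsDomain B] [IsDiscreteValuationRing B] [Algebra A B] [IsLocalHom (algebraMap A B)]
    (hinj : Function.Injective (algebraMap A B))
    [Field K] [Field L] [Algebra A K] [IsFractionRing A K] [Algebra B L] [IsFractionRing B L]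
    [Algebra K L] [Algebra A L] [IsScalarTower A K L] [IsScalarTower A B L] [Algebra.IsSeparable K L]
    (hB : CAlg.IsNagata B) : CAlg.IsNagata A := by
  refine ⟨inferInstance, fun p _ => ?_⟩
  rcases eq_or_ne p ⊥ with rfl | hp
  swap
  · haveI : p.IsMaximal := Ideal.IsPrime.isMaximal inferInstance hp
    exact NormFin18.isN2_of_isField _ ((Ideal.Quotient.maximal_ideal_iff_isField_quotient p).1 inferInstance)
  refine isN2_bot A K fun M _ _ _ _ hM => ?_
  haveI := hM
  haveI := EtRamH7.geomRed_of_separable K L
  exact finite_integralClosure_descends A B K L hB M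

end Groth.Agent.NagataH7
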