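import Groth.Prelude.Def_Found
import Mathlib.RingTheory.Localization.FractionRing
import Mathlib.RingTheory.IntegralClosure.IsIntegralClosure.Basic

/-!
# N-2 of a domain presented as `R ⧸ ⊥`
-/

universe u

namespace Groth.Agent.NagataH7

variable (R : Type u) [CommRing R] [IsDomain R] (K : Type u) [Field K] [Algebra R K] [IsFractionRing R K]

theorem isFractionRing_bot : IsFractionRing R (FractionRing (R ⧸ (⊥ : Ideal R))) :=
  IsLocalization.isLocalization_of_base_ringEquiv (nonZeroDivisors (R ⧸ (⊥ : Ideal R)))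
    (FractionRing (R ⧸ (⊥ : Ideal R))) (RingEquiv.quotientBot R) |> fun h => by
    have hmap : Submonoid.map (RingEquiv.quotientBot R) (nonZeroDivisors (R ⧸ (⊥ : Ideal R))) = nonZeroDivisors R :=
      MulEquivClass.map_nonZeroDivisors (RingEquiv.quotientBot R)
    have halg : ((algebraMap (R ⧸ (⊥ : Ideal R)) (FractionRing (R ⧸ (⊥ : Ideal R)))).comp
        (RingEquiv.quotientBot R).symm.toRingHom).toAlgebra =
        (inferInstance : Algebra R (FractionRing (R ⧸ (⊥ : Ideal R)))) := by
      apply Algebra.algebra_ext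
      intro r
      show algebraMap (R ⧸ (⊥ : Ideal R)) _ ((RingEquiv.quotientBot R).symm r) = algebraMap R _ r
      rw [IsScalarTower.algebraMap_apply R (R ⧸ (⊥ : Ideal R)) (FractionRing (R ⧸ (⊥ : Ideal R)))]
      rfl
    have h' := h
    rw [hmap] at h'
    convert h' using 1
    exact halg.symm

/-- The integral closure of an N-2 domain in a finite extension of any fraction field is finite. -/
theorem finite_integralClosure (h : CAlg.IsN2 (R ⧸ (⊥ : Ideal R))) (M : Type u) [Field M] [Algebra R M]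
    [Algebra K M] [IsScalarTower R K M] [FiniteDimensional K M] : Module.Finite R (integralClosure R M) := by
  haveI := isFractionRing_bot R
  let E := FractionRing (R ⧸ (⊥ : Ideal R))
  let e : E ≃ₐ[R] K := IsLocalization.algEquiv (nonZeroDivisors R) E K
  letI : Algebra E M := ((algebraMap K M).comp e.toAlgHom.toRingHom).toAlgebra
  letI : Algebra (R ⧸ (⊥ : Ideal R)) M := ((algebraMap E M).comp (algebraMap (R ⧸ (⊥ : Ideal R)) E)).toAlgebra
  haveI : IsScalarTower (R ⧸ (⊥ : Ideal R)) E M := IsScalarTower.of_algebraMap_eq fun _ => rfl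
  haveI : IsScalarTower R (R ⧸ (⊥ : Ideal R)) M := IsScalarTower.of_algebraMap_eq fun r => by
    show algebraMap R M r = algebraMap K M (e (algebraMap (R ⧸ (⊥ : Ideal R)) E (algebraMap R (R ⧸ (⊥ : Ideal R)) r)))
    rw [← IsScalarTower.algebraMap_apply R (R ⧸ (⊥ : Ideal R)) E, e.commutes, ← IsScalarTower.algebraMap_apply]
  letI : Algebra E K := e.toAlgHom.toRingHom.toAlgebra
  haveI : IsScalarTower E K M := IsScalarTower.of_algebraMap_eq fun _ => rfl
  haveI : Module.Finite E K := Module.Finite.of_surjective (Algebra.linearMap E K) e.surjective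
  haveI := h M (Module.Finite.trans K M)
  haveI : Module.Finite R (R ⧸ (⊥ : Ideal R)) := inferInstance
  haveI : Module.Finite R (integralClosure (R ⧸ (⊥ : Ideal R)) M) := Module.Finite.trans (R ⧸ (⊥ : Ideal R)) _
  have hiff : ∀ x : M, IsIntegral R x ↔ IsIntegral (R ⧸ (⊥ : Ideal R)) x := fun x =>
    ⟨fun hx => hx.tower_top, fun hx => isIntegral_trans x hx⟩
  let f : integralClosure (R ⧸ (⊥ : Ideal R)) M →ₗ[R] integralClosure R M :=
    { toFun := fun x => ⟨x.1, (hiff _).2 x.2⟩
      map_add' := fun _ _ => rfl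
      map_smul' := fun _ _ => rfl }
  exact Module.Finite.of_surjective f fun x => ⟨⟨x.1, (hiff _).1 x.2⟩, rfl⟩

/-- Conversely. -/
theorem isN2_bot [(⊥ : Ideal R).IsPrime]
    (h : ∀ (M : Type u) [Field M] [Algebra R M] [Algebra K M] [IsScalarTower R K M],
      FiniteDimensional K M → Module.Finite R (integralClosure R M)) : CAlg.IsN2 (R ⧸ (⊥ : Ideal R)) := by
  intro M _ _ _ _ hM
  haveI := isFractionRing_bot R
  let E := FractionRing (R ⧸ (⊥ : Ideal R))
  let e : K ≃ₐ[R] E := IsLocalization.algEquiv (nonZeroDivisors R) K E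
  letI : Algebra K M := ((algebraMap E M).comp e.toAlgHom.toRingHom).toAlgebra
  letI : Algebra R M := ((algebraMap (R ⧸ (⊥ : Ideal R)) M).comp (algebraMap R (R ⧸ (⊥ : Ideal R)))).toAlgebra
  haveI : IsScalarTower R (R ⧸ (⊥ : Ideal R)) M := IsScalarTower.of_algebraMap_eq fun _ => rfl
  haveI : IsScalarTower R K M := IsScalarTower.of_algebraMap_eq fun r => by
    show algebraMap (R ⧸ (⊥ : Ideal R)) M (algebraMap R (R ⧸ (⊥ : Ideal R)) r) = algebraMap E M (e (algebraMap R K r))
    rw [e.commutes, IsScalarTower.algebraMap_apply (R ⧸ (⊥ : Ideal R)) E M, ← IsScalarTower.algebraMap_apply R _ E]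
  letI : Algebra K E := e.toAlgHom.toRingHom.toAlgebra
  haveI : IsScalarTower K E M := IsScalarTower.of_algebraMap_eq fun _ => rfl
  haveI : Module.Finite K E := Module.Finite.of_surjective (Algebra.linearMap K E) e.surjective
  haveI := hM
  haveI := h M (Module.Finite.trans E M)
  have hiff : ∀ x : M, IsIntegral R x ↔ IsIntegral (R ⧸ (⊥ : Ideal R)) x := fun x =>
    ⟨fun hx => hx.tower_top, fun hx => isIntegral_trans x hx⟩
  let f : integralClosure R M →ₗ[R] integralClosure (R ⧸ (⊥ : Ideal R)) M :=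
    { toFun := fun x => ⟨x.1, (hiff _).1 x.2⟩
      map_add' := fun _ _ => rfl
      map_smul' := fun _ _ => rfl }
  haveI : Module.Finite R (integralClosure (R ⧸ (⊥ : Ideal R)) M) :=
    Module.Finite.of_surjective f fun x => ⟨⟨x.1, (hiff _).2 x.2⟩, rfl⟩
  exact Module.Finite.of_restrictScalars_finite R _ _

end Groth.Agent.NagataH7
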